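import Groth.Agent.Lib.RegularResolution
import Groth.Agent.Lib.PnDualSheafHom
import Groth.Agent.VAmpleX.Ample
import Groth.Agent.NormalLib.Finite
import Mathlib.Algebra.Homology.DerivedCategory.Ext.ExactSequences
import Mathlib.Algebra.Homology.DerivedCategory.Ext.Linear

/-!
# Ext¹ of coherent modules on a projective scheme is finite dimensional
-/

set_option autoImplicit false
set_option linter.unusedSectionVars false
set_option backward.isDefEq.respectTransparency false
set_option backward.isDefEq.respectTransparency.types false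
set_option linter.style.haveILetI false
universe u

open CategoryTheory CategoryTheory.Limits AlgebraicGeometry TopologicalSpace
open Groth.Agent.H23.PicMul

noncomputable section

namespace Groth.Agent.QuotFunLib.ExtFinite

open Groth.Agent

/-- An ample invertible module gives enough locally free modules. -/
theorem hasEnoughLocFree_of_ample {X : Scheme.{u}} [IsNoetherian X] [X.IsSeparated] {L : X.Modules}
    (hL : CohB1.IsAmple L) : KRR.HasEnoughLocFree X := by
  classical
  obtain ⟨D, hD, e⟩ := H23.PicInv.exists_inverse hL.1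
  choose n s hs haff using hL.2.2
  obtain ⟨t, ht⟩ := isCompact_univ.elim_finite_subcover
    (fun x : X => ((CohB1.genLocus (CohB1.tensorPow L (n x + 1)) (s x)) : Set X))
    (fun x => (CohB1.genLocus _ (s x)).isOpen) (fun x _ => Set.mem_iUnion.2 ⟨x, hs x⟩)
  refine RegularResolution.exists_epi_of_family (κ := (↥t : Type u))
    (fun x => CohB1.tensorPow L (n x.1 + 1)) (fun x => CohB1.tensorPow D (n x.1 + 1))
    (fun x => InvX.isInvertible_tensorPow hL.1 _) (fun x => InvX.isInvertible_tensorPow hD _) (fun x => ?_)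
    (fun x => s x.1) (fun x => haff x.1) fun y => ?_
  · rw [cl_tensorPow, cl_tensorPow, ← mul_pow, ← cl_tensor, show PicF.cl (CohB1.tensorMod L D) = 1 from
      cl_eq_iff.2 e, one_pow]
  · obtain ⟨x, hx, hxy⟩ := Set.mem_iUnion₂.1 (ht (Set.mem_univ y))
    exact ⟨⟨x, hx⟩, hxy⟩

variable {k : Type u} [Field k] {X : Scheme.{u}} [X.Over (Spec (CommRingCat.of k))]
  [IsProper (X ↘ Spec (CommRingCat.of k))] [HasExt.{u} X.Modules]

theorem finite_ext_locFree {L N : X.Modules} (hL : FlatMod.IsFinLocFree L) (hN : Coh.IsCoh N) (n : ℕ) :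
    Module.Finite k (Abelian.Ext.{u} L N n) := by
  haveI := CurveCohLib.isNoetherian_of_proper (k := k) (X := X)
  obtain ⟨e⟩ := PnDual.nonempty_ext_linearEquiv_HH (A := k) hL N n
  haveI := CurveCohLib.finite_HH (k := k) (SheafHomX.isCoh_hom (KZ.LFRes.flf_isCoh hL) hN) n
  exact Module.Finite.equiv e.symm

theorem finite_hom (hX : KRR.HasEnoughLocFree X) {A N : X.Modules} (hA : Coh.IsCoh A) (hN : Coh.IsCoh N) :
    Module.Finite k (A ⟶ N) := by
  obtain ⟨L, p, hL, hp⟩ := hX A hA
  haveI := finite_ext_locFree (k := k) hL hN 0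
  haveI : Module.Finite k (L ⟶ N) := Module.Finite.equiv (Abelian.Ext.linearEquiv₀ (R := k))
  haveI : FiniteDimensional k (L ⟶ N) := this
  exact FiniteDimensional.of_injective (Linear.leftComp k N p) fun a b h => (cancel_epi p).1 h

/-- `Ext¹` of coherent modules is finite dimensional. -/
theorem finite_ext_one (hX : KRR.HasEnoughLocFree X) {A N : X.Modules} (hA : Coh.IsCoh A) (hN : Coh.IsCoh N) :
    Module.Finite k (Abelian.Ext.{u} A N 1) := by
  haveI := CurveCohLib.isNoetherian_of_proper (k := k) (X := X)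
  obtain ⟨L, p, hL, hp⟩ := hX A hA
  have hS : (ShortComplex.mk (kernel.ι p) p (kernel.condition p)).ShortExact :=
    { exact := ShortComplex.exact_of_f_is_kernel _ (kernelIsKernel p) }
  haveI := finite_ext_locFree (k := k) hL hN 1
  haveI := finite_hom (k := k) hX (QCoh.isCoh_kernel (KZ.LFRes.flf_isCoh hL) hA p) hN
  haveI : Module.Finite k (Abelian.Ext.{u} (kernel p) N 0) :=
    Module.Finite.equiv (Abelian.Ext.linearEquiv₀ (R := k)).symm
  let f : Abelian.Ext.{u} (kernel p) N 0 →ₗ[k] Abelian.Ext.{u} A N 1 :=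
    Abelian.Ext.bilinearCompOfLinear k A (kernel p) N 1 0 1 (add_zero 1) hS.extClass
  let g : Abelian.Ext.{u} A N 1 →ₗ[k] Abelian.Ext.{u} L N 1 :=
    Abelian.Ext.bilinearCompOfLinear k L A N 0 1 1 (zero_add 1) (Abelian.Ext.mk₀ p)
  haveI : Module.Finite k (LinearMap.ker g) := by
    refine Module.Finite.of_surjective (f.codRestrict (LinearMap.ker g) fun y => LinearMap.mem_ker.2
      (hS.comp_extClass_assoc y (add_zero 1))) fun z => ?_
    obtain ⟨y, hy⟩ := Abelian.Ext.contravariant_sequence_exact₃ hS N z.1 (LinearMap.mem_ker.1 z.2) (add_zero 1)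
    exact ⟨y, Subtype.ext hy⟩
  haveI : Module.Finite k (LinearMap.range g) := inferInstance
  haveI : Module.Finite k (Abelian.Ext.{u} A N 1 ⧸ LinearMap.ker g) := Module.Finite.equiv g.quotKerEquivRange.symm
  exact Module.Finite.of_submodule_quotient (LinearMap.ker g)

end Groth.Agent.QuotFunLib.ExtFinite
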