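import Groth.Agent.QuotFunLib.Sub
import Groth.Agent.ArtFunLib.HilbLink
import Groth.Agent.MorLib.FlatBC
import Groth.Agent.ZClosLib.CohDescent
import Groth.Agent.QCoh.Support
import Groth.Agent.KFlatLib.Scheme.RelTor
import Groth.Agent.KFlatLib.Scheme.CohD
import Groth.Prelude.Def_FGA

/-!
# Pullback of quotients through stalks
-/

set_option autoImplicit false
set_option backward.isDefEq.respectTransparency false
set_option backward.isDefEq.respectTransparency.types false
set_option linter.style.haveILetI false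
universe u

open CategoryTheory CategoryTheory.Limits AlgebraicGeometry TopologicalSpace Opposite

noncomputable section

namespace Groth.Agent.QuotFunLib

open Groth.Agent Groth.Agent.KFlatLib

section At

variable {X Y : Scheme.{u}} (f : X ⟶ Y)

/-- The map of local rings, with the image point named. -/
def ringAt (y : X) {z : Y} (h : f y = z) : Y.presheaf.stalk z →+* X.presheaf.stalk y :=
  match z, h with
  | _, rfl => (f.stalkMap y).hom

/-- `pm` with the image point named. -/
def pmAt (M : Y.Modules) (y : X) {z : Y} (h : f y = z) (m : M.presheaf.stalk z) :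
    ((Scheme.Modules.pullback f).obj M).presheaf.stalk y :=
  match z, h, m with
  | _, rfl, m => pm f M y m

theorem ringAt_comp {Z : Scheme.{u}} (g : Y ⟶ Z) (y : X) {z : Y} {w : Z} (h : f y = z) (h' : g z = w)
    (h'' : (f ≫ g) y = w) (r : Z.presheaf.stalk w) :
    ringAt f y h (ringAt g z h' r) = ringAt (f ≫ g) y h'' r := by
  subst h h'
  exact (congr($(Scheme.Hom.stalkMap_comp f g y) r)).symm

theorem ringAt_congr {f g : X ⟶ Y} (e : f = g) (y : X) {z : Y} (h : f y = z) (h' : g y = z)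
    (r : Y.presheaf.stalk z) : ringAt f y h r = ringAt g y h' r := by
  subst e
  rfl

theorem pmAt_add {M : Y.Modules} {y : X} {z : Y} (h : f y = z) (m n : M.presheaf.stalk z) :
    pmAt f M y h (m + n) = pmAt f M y h m + pmAt f M y h n := by
  subst h
  exact pm_add f m n

theorem pmAt_zero {M : Y.Modules} {y : X} {z : Y} (h : f y = z) : pmAt f M y h 0 = 0 := by
  subst h
  exact pm_zero f

theorem pmAt_smul {M : Y.Modules} {y : X} {z : Y} (h : f y = z) (r : Y.presheaf.stalk z) (m : M.presheaf.stalk z) :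
    pmAt f M y h (r • m) = ringAt f y h r • pmAt f M y h m := by
  subst h
  exact pm_smul f r m

theorem pmAt_nat {M N : Y.Modules} (g : M ⟶ N) (y : X) {z : Y} (h : f y = z) (m : M.presheaf.stalk z) :
    pmAt f N y h (smap g z m) = smap ((Scheme.Modules.pullback f).map g) y (pmAt f M y h m) := by
  subst h
  exact pm_nat f g y m

theorem span_range_pmAt (M : Y.Modules) (y : X) {z : Y} (h : f y = z) :
    Submodule.span (X.presheaf.stalk y) (Set.range (pmAt f M y h)) = ⊤ := by
  subst h
  exact span_range_pm f M y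

theorem pmAt_surjective {M : Y.Modules} {y : X} {z : Y} (h : f y = z) (hf : Function.Surjective (ringAt f y h)) :
    Function.Surjective (pmAt f M y h) := by
  subst h
  exact pm_surjective f hf

theorem pmAt_eq_zero_iff {M : Y.Modules} {y : X} {z : Y} (h : f y = z) (hf : Function.Surjective (ringAt f y h))
    (m : M.presheaf.stalk z) :
    pmAt f M y h m = 0 ↔
      m ∈ RingHom.ker (ringAt f y h) • (⊤ : Submodule (Y.presheaf.stalk z) (M.presheaf.stalk z)) := by
  subst h
  exact pm_eq_zero_iff f hf m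

theorem pmAt_comp {Z : Scheme.{u}} (g : Y ⟶ Z) (M : Z.Modules) (y : X) {z : Y} {w : Z} (h : f y = z) (h' : g z = w)
    (h'' : (f ≫ g) y = w) (m : M.presheaf.stalk w) :
    smap ((Scheme.Modules.pullbackComp f g).hom.app M) y (pmAt f _ y h (pmAt g M z h' m)) =
      pmAt (f ≫ g) M y h'' m := by
  subst h h'
  exact pm_comp f g M y m

theorem pmAt_congr {f g : X ⟶ Y} (e : f = g) (M : Y.Modules) (y : X) {z : Y} (h : f y = z) (h' : g y = z)
    (m : M.presheaf.stalk z) :
    smap ((Scheme.Modules.pullbackCongr e).hom.app M) y (pmAt f M y h m) = pmAt g M y h' m := by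
  subst e
  subst h
  exact pm_congr f rfl M y m m HEq.rfl

end At

section PE

variable {X S : Scheme.{u}} {x : X ⟶ S} {E : X.Modules}

theorem fst_XTmap {T T' : Over S} (g : T' ⟶ T) (y : PicF.XT x T') {z : PicF.XT x T} {w : X}
    (h : PicF.XTmap x g y = z) (h' : pullback.fst x T.hom z = w) : pullback.fst x T'.hom y = w := by
  subst h h'
  exact (congr($(FGA.XTmap_fst x g) y)).symm

/-- The pullback of a stalk element of `E_T`. -/
def pE {T T' : Over S} (g : T' ⟶ T) (y : PicF.XT x T') {z : PicF.XT x T} (h : PicF.XTmap x g y = z)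
    (m : (FGA.ET x E T).presheaf.stalk z) : (FGA.ET x E T').presheaf.stalk y :=
  smap (FGA.ETiso x E g).hom y (pmAt (PicF.XTmap x g) (FGA.ET x E T) y h m)

/-- The pullback of a stalk element of `E`. -/
def pF (T : Over S) (y : PicF.XT x T) {w : X} (h : pullback.fst x T.hom y = w) (e : E.presheaf.stalk w) :
    (FGA.ET x E T).presheaf.stalk y :=
  pmAt (pullback.fst x T.hom) E y h e

theorem pE_add {T T' : Over S} (g : T' ⟶ T) {y : PicF.XT x T'} {z : PicF.XT x T} (h : PicF.XTmap x g y = z)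
    (m n : (FGA.ET x E T).presheaf.stalk z) : pE g y h (m + n) = pE g y h m + pE g y h n := by
  rw [pE, pmAt_add, map_add]
  rfl

theorem pE_zero {T T' : Over S} (g : T' ⟶ T) {y : PicF.XT x T'} {z : PicF.XT x T} (h : PicF.XTmap x g y = z) :
    pE (E := E) g y h 0 = 0 := by
  rw [pE, pmAt_zero, map_zero]

theorem pE_smul {T T' : Over S} (g : T' ⟶ T) {y : PicF.XT x T'} {z : PicF.XT x T} (h : PicF.XTmap x g y = z)
    (r : (PicF.XT x T).presheaf.stalk z) (m : (FGA.ET x E T).presheaf.stalk z) :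
    pE g y h (r • m) = ringAt (PicF.XTmap x g) y h r • pE g y h m :=
  (congrArg _ (pmAt_smul _ h r m)).trans (LinearMap.map_smul _ _ _)

theorem pE_sum {T T' : Over S} (g : T' ⟶ T) {y : PicF.XT x T'} {z : PicF.XT x T} (h : PicF.XTmap x g y = z)
    {ι : Type*} (s : Finset ι) (m : ι → (FGA.ET x E T).presheaf.stalk z) :
    pE g y h (∑ i ∈ s, m i) = ∑ i ∈ s, pE g y h (m i) := by
  classical
  induction s using Finset.induction_on with
  | empty => exact pE_zero g h
  | insert a s ha ih => rw [Finset.sum_insert ha, Finset.sum_insert ha, pE_add, ih]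

theorem smap_ETiso_surjective {T T' : Over S} (g : T' ⟶ T) (y : PicF.XT x T') :
    Function.Surjective (smap (FGA.ETiso x E g).hom y) := smap_surjective _ y

theorem pE_surjective {T T' : Over S} (g : T' ⟶ T) {y : PicF.XT x T'} {z : PicF.XT x T}
    (h : PicF.XTmap x g y = z) (hs : Function.Surjective (ringAt (PicF.XTmap x g) y h)) :
    Function.Surjective (pE (E := E) g y h) :=
  (smap_ETiso_surjective g y).comp (pmAt_surjective _ h hs)

theorem pE_eq_zero_iff {T T' : Over S} (g : T' ⟶ T) {y : PicF.XT x T'} {z : PicF.XT x T}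
    (h : PicF.XTmap x g y = z) (hs : Function.Surjective (ringAt (PicF.XTmap x g) y h))
    (m : (FGA.ET x E T).presheaf.stalk z) :
    pE g y h m = 0 ↔ m ∈ RingHom.ker (ringAt (PicF.XTmap x g) y h) •
      (⊤ : Submodule ((PicF.XT x T).presheaf.stalk z) ((FGA.ET x E T).presheaf.stalk z)) := by
  rw [← pmAt_eq_zero_iff _ h hs]
  exact map_eq_zero_iff _ (smap_injective _ y)

theorem pE_pF {T T' : Over S} (g : T' ⟶ T) {y : PicF.XT x T'} {z : PicF.XT x T} {w : X}
    (h : PicF.XTmap x g y = z) (h' : pullback.fst x T.hom z = w) (e : E.presheaf.stalk w) :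
    pE g y h (pF T z h' e) = pF T' y (fst_XTmap g y h h') e := by
  refine (smap_comp _ _ y _).trans ?_
  have hw : (PicF.XTmap x g ≫ pullback.fst x T.hom) y = w := by subst h h'; rfl
  refine (congrArg _ (pmAt_comp (PicF.XTmap x g) (pullback.fst x T.hom) E y h h' hw e)).trans ?_
  exact pmAt_congr (FGA.XTmap_fst x g) E y hw _ e

theorem pE_ext {T T' : Over S} {y : PicF.XT x T'} {z : PicF.XT x T}
    {a b : (FGA.ET x E T).presheaf.stalk z → (FGA.ET x E T').presheaf.stalk y}
    (σ : (PicF.XT x T).presheaf.stalk z → (PicF.XT x T').presheaf.stalk y)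
    (ha : ∀ m n, a (m + n) = a m + a n) (hb : ∀ m n, b (m + n) = b m + b n)
    (ha' : ∀ r m, a (r • m) = σ r • a m) (hb' : ∀ r m, b (r • m) = σ r • b m)
    (h : ∀ {w : X} (h' : pullback.fst x T.hom z = w) (e : E.presheaf.stalk w), a (pF T z h' e) = b (pF T z h' e))
    (m : (FGA.ET x E T).presheaf.stalk z) : a m = b m := by
  have hm : m ∈ Submodule.span ((PicF.XT x T).presheaf.stalk z)
      (Set.range (pmAt (pullback.fst x T.hom) E z rfl)) := by
    rw [span_range_pmAt]; trivial
  induction hm using Submodule.span_induction with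
  | mem m hm => obtain ⟨e, rfl⟩ := hm; exact h rfl e
  | zero => exact (AddMonoidHom.mk' a ha).map_zero.trans (AddMonoidHom.mk' b hb).map_zero.symm
  | add c d _ _ hc hd => rw [ha, hb, hc, hd]
  | smul r c _ hc => rw [ha', hb', hc]

theorem XTmap_apply_comp {T T' T'' : Over S} (g : T' ⟶ T) (g' : T'' ⟶ T') (y : PicF.XT x T'')
    {z : PicF.XT x T'} {w : PicF.XT x T} (h : PicF.XTmap x g' y = z) (h' : PicF.XTmap x g z = w) :
    PicF.XTmap x (g' ≫ g) y = w := by
  subst h h'
  exact congr($(ArtFunLib.HilbLink.XTmap_comp x g g') y)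

theorem ringAt_XTmap_comp {T T' T'' : Over S} (g : T' ⟶ T) (g' : T'' ⟶ T') {y : PicF.XT x T''}
    {z : PicF.XT x T'} {w : PicF.XT x T} (h : PicF.XTmap x g' y = z) (h' : PicF.XTmap x g z = w)
    (r : (PicF.XT x T).presheaf.stalk w) :
    ringAt (PicF.XTmap x g') y h (ringAt (PicF.XTmap x g) z h' r) =
      ringAt (PicF.XTmap x (g' ≫ g)) y (XTmap_apply_comp g g' y h h') r := by
  rw [ringAt_comp (PicF.XTmap x g') (PicF.XTmap x g) y h h' (by subst h h'; rfl)]
  exact ringAt_congr (ArtFunLib.HilbLink.XTmap_comp x g g').symm _ _ _ r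

theorem pE_comp {T T' T'' : Over S} (g : T' ⟶ T) (g' : T'' ⟶ T') {y : PicF.XT x T''}
    {z : PicF.XT x T'} {w : PicF.XT x T} (h : PicF.XTmap x g' y = z) (h' : PicF.XTmap x g z = w)
    (m : (FGA.ET x E T).presheaf.stalk w) :
    pE g' y h (pE g z h' m) = pE (g' ≫ g) y (XTmap_apply_comp g g' y h h') m := by
  refine pE_ext (a := fun m => pE g' y h (pE g z h' m))
    (b := pE (g' ≫ g) y (XTmap_apply_comp g g' y h h'))
    (ringAt (PicF.XTmap x (g' ≫ g)) y (XTmap_apply_comp g g' y h h'))
    (fun m n => (congrArg _ (pE_add g h' m n)).trans (pE_add g' h _ _)) (pE_add _ _)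
    (fun r m => ((congrArg _ (pE_smul g h' r m)).trans (pE_smul g' h _ _)).trans
      (congrArg (· • _) (ringAt_XTmap_comp g g' h h' r))) (pE_smul _ _) ?_ m
  intro v hv e
  show pE g' y h (pE g z h' (pF T w hv e)) = _
  rw [pE_pF, pE_pF, pE_pF]

theorem XTmap_id (T : Over S) : PicF.XTmap x (𝟙 T) = 𝟙 (PicF.XT x T) := by
  apply pullback.hom_ext
  · rw [FGA.XTmap_fst, Category.id_comp]
  · show _ ≫ PicF.XTproj x T = _ ≫ PicF.XTproj x T
    rw [ArtFunLib.HilbLink.XTmap_snd, Category.id_comp, Over.id_left, Category.comp_id]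

theorem ringAt_id (T : Over S) (y : PicF.XT x T) (h : PicF.XTmap x (𝟙 T) y = y)
    (r : (PicF.XT x T).presheaf.stalk y) : ringAt (PicF.XTmap x (𝟙 T)) y h r = r := by
  rw [ringAt_congr (XTmap_id T) y h rfl r]
  exact congr($(Scheme.Hom.stalkMap_id (PicF.XT x T) y) r)

theorem pE_id (T : Over S) (y : PicF.XT x T) (h : PicF.XTmap x (𝟙 T) y = y)
    (m : (FGA.ET x E T).presheaf.stalk y) : pE (𝟙 T) y h m = m := by
  refine pE_ext (a := pE (𝟙 T) y h) (b := id) id (pE_add _ _) (fun _ _ => rfl)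
    (fun r m => (pE_smul _ h r m).trans (congrArg (· • _) (ringAt_id T y h r))) (fun _ _ => rfl) ?_ m
  intro w hw e
  exact pE_pF (𝟙 T) h hw e

theorem stk_quotPull {T T' : Over S} (g : T' ⟶ T) (K : Subobject (FGA.ET x E T)) {y : PicF.XT x T'}
    {z : PicF.XT x T} (h : PicF.XTmap x g y = z) :
    stk (FGA.quotPull x E g K) y =
      Submodule.span ((PicF.XT x T').presheaf.stalk y) (pE g y h '' (stk K z)) := by
  let φ := (Scheme.Modules.pullback (PicF.XTmap x g)).map K.arrow ≫ (FGA.ETiso x E g).hom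
  rw [FGA.quotPull, stk_imageSubobject, ← Submodule.map_top,
    ← span_range_pmAt (PicF.XTmap x g) (K : (PicF.XT x T).Modules) y h, Submodule.map_span, ← Set.range_comp]
  congr 1
  ext v
  constructor
  · rintro ⟨m, rfl⟩
    refine ⟨smap K.arrow z m, ⟨m, rfl⟩, ?_⟩
    exact (congrArg _ (pmAt_nat _ K.arrow y h m)).trans (smap_comp _ _ y _).symm
  · rintro ⟨_, ⟨m, rfl⟩, rfl⟩
    exact ⟨m, ((congrArg _ (pmAt_nat _ K.arrow y h m)).trans (smap_comp _ _ y _).symm).symm⟩

theorem pE_mem_stk {T T' : Over S} (g : T' ⟶ T) {K : Subobject (FGA.ET x E T)} {y : PicF.XT x T'}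
    {z : PicF.XT x T} (h : PicF.XTmap x g y = z) {m : (FGA.ET x E T).presheaf.stalk z} (hm : m ∈ stk K z) :
    pE g y h m ∈ stk (FGA.quotPull x E g K) y := by
  rw [stk_quotPull g K h]
  exact Submodule.subset_span ⟨m, hm, rfl⟩

theorem quotPull_comp {T T' T'' : Over S} (g : T' ⟶ T) (g' : T'' ⟶ T') (K : Subobject (FGA.ET x E T)) :
    FGA.quotPull x E (g' ≫ g) K = FGA.quotPull x E g' (FGA.quotPull x E g K) := by
  refine ext_stk fun y => le_antisymm ?_ ?_
  · rw [stk_quotPull _ K (XTmap_apply_comp g g' y rfl rfl)]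
    refine Submodule.span_le.2 ?_
    rintro _ ⟨m, hm, rfl⟩
    exact (pE_comp g g' rfl rfl m).symm ▸ pE_mem_stk g' rfl (pE_mem_stk g rfl hm)
  · rw [stk_quotPull g' _ rfl]
    refine Submodule.span_le.2 ?_
    rintro _ ⟨m, hm, rfl⟩
    rw [SetLike.mem_coe, stk_quotPull g K rfl] at hm
    induction hm using Submodule.span_induction with
    | mem m hm =>
      obtain ⟨n, hn, rfl⟩ := hm
      rw [pE_comp]
      exact pE_mem_stk _ _ hn
    | zero => rw [pE_zero]; exact zero_mem _
    | add a b _ _ ha hb => rw [pE_add]; exact add_mem ha hb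
    | smul r a _ ha => rw [pE_smul]; exact Submodule.smul_mem _ _ ha

theorem quotPull_id {T : Over S} (K : Subobject (FGA.ET x E T)) : FGA.quotPull x E (𝟙 T) K = K := by
  refine ext_stk fun y => ?_
  have h : PicF.XTmap x (𝟙 T) y = y := congr($(XTmap_id T) y)
  rw [stk_quotPull _ K h]
  refine le_antisymm (Submodule.span_le.2 ?_) fun m hm => Submodule.subset_span ⟨m, hm, pE_id T y h m⟩
  rintro _ ⟨m, hm, rfl⟩
  rw [pE_id]
  exact hm

/-- The quotient of a pulled back submodule is the pullback of the quotient. -/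
def quotIso {T T' : Over S} (g : T' ⟶ T) (K : Subobject (FGA.ET x E T)) :
    cokernel (FGA.quotPull x E g K).arrow ≅
      (Scheme.Modules.pullback (PicF.XTmap x g)).obj (cokernel K.arrow) :=
  haveI := (Scheme.Modules.pullbackPushforwardAdjunction (PicF.XTmap x g)).leftAdjoint_preservesColimits
  (cokernelEpiComp (factorThruImageSubobject _) _).symm ≪≫ cokernelIsoOfEq (imageSubobject_arrow_comp _) ≪≫
    cokernelCompIsIso _ _ ≪≫ (PreservesCokernel.iso (Scheme.Modules.pullback (PicF.XTmap x g)) K.arrow).symm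

theorem isCoh_flat_quotPull {T T' : Over S} (g : T' ⟶ T) (K : FGA.QuotSet x E T) :
    Coh.IsCoh (cokernel (FGA.quotPull x E g K.1).arrow) ∧
      FlatMod.IsFlatOver (PicF.XTproj x T') (cokernel (FGA.quotPull x E g K.1).arrow) := by
  have e := (quotIso g K.1).symm
  refine ⟨?_, fun y => ?_⟩
  · exact ⟨(QCoh.isQCoh_iff_iso e).1 (ZClosLib.isCoh_pullback _ K.2.1).1,
      KFlatLib.isFT_of_iso' e (ZClosLib.isCoh_pullback _ K.2.1).2⟩
  · exact KFlatLib.RelTor.flatOverAt_of_iso e
      (MorLib.FlatBC.isFlatOverAt_baseChange _ _ _ _ (ArtFunLib.HilbLink.isPullback_XTmap x g) _ y (K.2.2 _))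

end PE

end Groth.Agent.QuotFunLib
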