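import Groth.Agent.KFlatLib.Scheme.PullTensor
import Groth.Agent.KFlatLib.Scheme.ClosedPush
import Mathlib.LinearAlgebra.TensorProduct.Quotient

/-!
# Stalks of pullbacks of modules, element-wise
-/

set_option autoImplicit false
set_option backward.isDefEq.respectTransparency false
set_option backward.isDefEq.respectTransparency.types false
set_option linter.style.haveILetI false
universe u

open CategoryTheory CategoryTheory.Limits AlgebraicGeometry TopologicalSpace Opposite
open scoped TensorProduct

noncomputable section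

namespace Groth.Agent.QuotFunLib

open Groth.Agent

/-- The map on stalks. -/
abbrev smap {X : Scheme.{u}} {M N : X.Modules} (φ : M ⟶ N) (x : X) :
    M.presheaf.stalk x →ₗ[X.presheaf.stalk x] N.presheaf.stalk x :=
  Algz.stalkMapₗ φ x

theorem smap_germ {X : Scheme.{u}} {M N : X.Modules} (φ : M ⟶ N) {x : X} (U : X.Opens) (hx : x ∈ U) (s : Γ(M, U)) :
    smap φ x (M.presheaf.germ U x hx s) = N.presheaf.germ U x hx (φ.app U s) :=
  KFlatLib.stalk_map_gm φ U hx s

theorem smap_comp {X : Scheme.{u}} {M N L : X.Modules} (φ : M ⟶ N) (ψ : N ⟶ L) (x : X) (m : M.presheaf.stalk x) :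
    smap (φ ≫ ψ) x m = smap ψ x (smap φ x m) := by
  obtain ⟨U, hx, s, rfl⟩ := M.presheaf.exists_germ_eq m
  rw [smap_germ, smap_germ, smap_germ]
  rfl

variable {X Y : Scheme.{u}} (f : X ⟶ Y)

/-- The pullback of a stalk element. -/
def pm (M : Y.Modules) (x : X) (m : M.presheaf.stalk (f x)) :
    ((Scheme.Modules.pullback f).obj M).presheaf.stalk x :=
  (KFlatLib.stalkPullbackIso f x).inv.app M
    (KFlatLib.u1 (f.stalkMap x).hom ((DerSch.stalkFunctor Y (f x)).obj M) m)

theorem pm_germ {M : Y.Modules} {x : X} (U : Y.Opens) (hx : f x ∈ U) (s : Γ(M, U)) :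
    pm f M x (M.presheaf.germ U (f x) hx s) =
      ((Scheme.Modules.pullback f).obj M).presheaf.germ (f ⁻¹ᵁ U) x hx
        (((Scheme.Modules.pullbackPushforwardAdjunction f).unit.app M).app U s) := by
  refine (congrArg ((KFlatLib.stalkPullbackIso f x).inv.app M)
    (KFlatLib.stalkPullbackIso_gm f x M U hx s).symm).trans ?_
  exact Iso.hom_inv_id_apply ((KFlatLib.stalkPullbackIso f x).app M) _

theorem pm_add {M : Y.Modules} {x : X} (m n : M.presheaf.stalk (f x)) :
    pm f M x (m + n) = pm f M x m + pm f M x n := by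
  rw [pm, KFlatLib.u1, map_add, map_add]
  rfl

theorem pm_smul {M : Y.Modules} {x : X} (r : Y.presheaf.stalk (f x)) (m : M.presheaf.stalk (f x)) :
    pm f M x (r • m) = (f.stalkMap x).hom r • pm f M x m := by
  refine Eq.trans (congrArg ((KFlatLib.stalkPullbackIso f x).inv.app M) ?_)
    (((KFlatLib.stalkPullbackIso f x).inv.app M).hom.map_smul _ _)
  exact ((ModuleCat.extendRestrictScalarsAdj (f.stalkMap x).hom).unit.app
    ((DerSch.stalkFunctor Y (f x)).obj M)).hom.map_smul r m

theorem pm_zero {M : Y.Modules} {x : X} : pm f M x 0 = 0 := by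
  rw [pm, KFlatLib.u1, map_zero, map_zero]

theorem pm_sub {M : Y.Modules} {x : X} (m n : M.presheaf.stalk (f x)) :
    pm f M x (m - n) = pm f M x m - pm f M x n := by
  rw [eq_sub_iff_add_eq, ← pm_add, sub_add_cancel]

theorem pm_sum {M : Y.Modules} {x : X} {ι : Type*} (s : Finset ι) (m : ι → M.presheaf.stalk (f x)) :
    pm f M x (∑ i ∈ s, m i) = ∑ i ∈ s, pm f M x (m i) := by
  classical
  induction s using Finset.induction_on with
  | empty => simp [pm_zero]
  | insert a s ha ih => rw [Finset.sum_insert ha, Finset.sum_insert ha, pm_add, ih]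

theorem pm_nat {M N : Y.Modules} (g : M ⟶ N) (x : X) (m : M.presheaf.stalk (f x)) :
    pm f N x (smap g (f x) m) = smap ((Scheme.Modules.pullback f).map g) x (pm f M x m) := by
  obtain ⟨U, hx, s, rfl⟩ := M.presheaf.exists_germ_eq m
  rw [smap_germ, pm_germ, pm_germ, smap_germ]
  exact congrArg _ (congr($(((Scheme.Modules.pullbackPushforwardAdjunction f).unit.naturality g)).app U s))

theorem span_range_pm (M : Y.Modules) (x : X) :
    Submodule.span (X.presheaf.stalk x) (Set.range (pm f M x)) = ⊤ := by
  let i := ((KFlatLib.stalkPullbackIso f x).app M).toLinearEquiv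
  algebraize [(f.stalkMap x).hom]
  refine eq_top_iff.2 fun z _ => ?_
  suffices h : ∀ w : (X.presheaf.stalk x) ⊗[Y.presheaf.stalk (f x)] (M.presheaf.stalk (f x)),
      i.symm w ∈ Submodule.span (X.presheaf.stalk x) (Set.range (pm f M x)) by
    have := h (i z)
    rwa [i.symm_apply_apply] at this
  intro w
  induction w using TensorProduct.induction_on with
  | zero => rw [map_zero]; exact zero_mem _
  | tmul a m =>
    have e : a • pm f M x m = i.symm (a ⊗ₜ[Y.presheaf.stalk (f x)] m) := by
      refine (i.symm.map_smul a ((1 : X.presheaf.stalk x) ⊗ₜ[Y.presheaf.stalk (f x)] m)).symm.trans (congrArg i.symm ?_)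
      rw [TensorProduct.smul_tmul', smul_eq_mul, mul_one]
    rw [← e]
    exact Submodule.smul_mem _ _ (Submodule.subset_span ⟨m, rfl⟩)
  | add a b ha hb => rw [map_add]; exact add_mem ha hb

theorem pm_surjective {M : Y.Modules} {x : X} (hf : Function.Surjective (f.stalkMap x).hom) :
    Function.Surjective (pm f M x) := fun z => by
  have hz : z ∈ Submodule.span (X.presheaf.stalk x) (Set.range (pm f M x)) := by rw [span_range_pm]; trivial
  induction hz using Submodule.span_induction with
  | mem z hz => exact hz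
  | zero => exact ⟨0, pm_zero f⟩
  | add a b _ _ ha hb =>
    obtain ⟨a', rfl⟩ := ha
    obtain ⟨b', rfl⟩ := hb
    exact ⟨a' + b', pm_add f a' b'⟩
  | smul r a _ ha =>
    obtain ⟨a', rfl⟩ := ha
    obtain ⟨r', rfl⟩ := hf r
    exact ⟨r' • a', pm_smul f r' a'⟩

theorem pm_eq_zero_iff {M : Y.Modules} {x : X} (hf : Function.Surjective (f.stalkMap x).hom)
    (m : M.presheaf.stalk (f x)) :
    pm f M x m = 0 ↔ m ∈ RingHom.ker (f.stalkMap x).hom • (⊤ : Submodule (Y.presheaf.stalk (f x)) (M.presheaf.stalk (f x))) := by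
  let i := ((KFlatLib.stalkPullbackIso f x).app M).toLinearEquiv
  algebraize [(f.stalkMap x).hom]
  let R := Y.presheaf.stalk (f x)
  let S := X.presheaf.stalk x
  let N := M.presheaf.stalk (f x)
  let e : S ⊗[R] N ≃ₗ[R] N ⧸ RingHom.ker (f.stalkMap x).hom • (⊤ : Submodule R N) :=
    (TensorProduct.congr ((Ideal.quotientKerAlgEquivOfSurjective (f := Algebra.ofId R S) hf).symm.toLinearEquiv)
      (LinearEquiv.refl R N)).trans (TensorProduct.quotTensorEquivQuotSMul N _)
  have he : e ((1 : S) ⊗ₜ[R] m) = Submodule.Quotient.mk m := by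
    show (TensorProduct.quotTensorEquivQuotSMul N _) (((Ideal.quotientKerAlgEquivOfSurjective (f := Algebra.ofId R S) hf).symm 1) ⊗ₜ[R] m) = _
    rw [map_one]
    exact congrArg Submodule.Quotient.mk (one_smul R (m : N))
  rw [← Submodule.Quotient.mk_eq_zero, ← he, LinearEquiv.map_eq_zero_iff]
  exact i.symm.map_eq_zero_iff

theorem smap_counit_pm (N : X.Modules) (x : X)
    (m : ((Scheme.Modules.pushforward f).obj N).presheaf.stalk (f x)) :
    smap ((Scheme.Modules.pullbackPushforwardAdjunction f).counit.app N) x (pm f _ x m) =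
      TopCat.Presheaf.stalkPushforward Ab.{u} f.base N.presheaf x m := by
  obtain ⟨U, hx, s, rfl⟩ := ((Scheme.Modules.pushforward f).obj N).presheaf.exists_germ_eq m
  refine (congrArg _ (pm_germ f U hx s)).trans ((smap_germ _ _ _ _).trans ?_)
  refine Eq.trans ?_ (congr($(TopCat.Presheaf.stalkPushforward_germ Ab.{u} f.base N.presheaf U x hx) s)).symm
  exact congrArg _ (congr($((Scheme.Modules.pullbackPushforwardAdjunction f).right_triangle_components N).app U s))

/-- The value of an adjoint map on stalks. -/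
theorem stalkPush_homEquiv {M : Y.Modules} {N : X.Modules} (ψ : (Scheme.Modules.pullback f).obj M ⟶ N)
    (x : X) (m : M.presheaf.stalk (f x)) :
    TopCat.Presheaf.stalkPushforward Ab.{u} f.base N.presheaf x
      (smap ((Scheme.Modules.pullbackPushforwardAdjunction f).homEquiv M N ψ) (f x) m) =
        smap ψ x (pm f M x m) := by
  refine (smap_counit_pm f N x _).symm.trans ((congrArg _ (pm_nat f _ x m)).trans
    ((smap_comp _ _ x _).symm.trans ?_))
  exact congrArg (fun φ => smap φ x (pm f M x m))
    (((Scheme.Modules.pullbackPushforwardAdjunction f).homEquiv_counit _ _ _).symm.trans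
      (((Scheme.Modules.pullbackPushforwardAdjunction f).homEquiv M N).symm_apply_apply ψ))

/-- Pullback along a composite. -/
theorem pm_comp {Z : Scheme.{u}} (g : Y ⟶ Z) (M : Z.Modules) (x : X) (m : M.presheaf.stalk (g (f x))) :
    smap ((Scheme.Modules.pullbackComp f g).hom.app M) x (pm f _ x (pm g M (f x) m)) = pm (f ≫ g) M x m := by
  obtain ⟨U, hx, s, rfl⟩ := M.presheaf.exists_germ_eq m
  refine (congrArg _ ((congrArg (pm f _ x) (pm_germ g U hx s)).trans (pm_germ f (g ⁻¹ᵁ U) hx _))).trans ?_
  refine (smap_germ _ _ _ _).trans ?_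
  refine Eq.trans ?_ (pm_germ (f ≫ g) U hx s).symm
  refine congrArg _ ?_
  have h := unit_conjugateEquiv ((Scheme.Modules.pullbackPushforwardAdjunction g).comp (Scheme.Modules.pullbackPushforwardAdjunction f))
      (Scheme.Modules.pullbackPushforwardAdjunction (f ≫ g)) (Scheme.Modules.pullbackComp f g).inv M
  rw [Scheme.Modules.conjugateEquiv_pullbackComp_inv] at h
  have h2 := congrArg (fun φ => φ ≫ (Scheme.Modules.pushforward (f ≫ g)).map ((Scheme.Modules.pullbackComp f g).hom.app M)) h
  simp only [Category.assoc, ← Functor.map_comp, Iso.inv_hom_id_app, CategoryTheory.Functor.map_id, Category.comp_id] at h2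
  exact congrArg (fun φ => φ.app U s) (h2.trans (Category.comp_id _))

theorem pm_congr {g : X ⟶ Y} (e : f = g) (M : Y.Modules) (x : X) (m : M.presheaf.stalk (f x))
    (m' : M.presheaf.stalk (g x)) (hm : HEq m m') :
    smap ((Scheme.Modules.pullbackCongr e).hom.app M) x (pm f M x m) = pm g M x m' := by
  subst e
  obtain rfl := eq_of_heq hm
  obtain ⟨U, hx, s, hs⟩ := ((Scheme.Modules.pullback f).obj M).presheaf.exists_germ_eq (pm f M x m)
  rw [← hs]
  exact (smap_germ _ _ _ _).trans rfl

end Groth.Agent.QuotFunLib
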