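import Groth.Agent.QuotFunLib.StalkPull
import Groth.Agent.KFlatLib.Scheme.Exact
import Mathlib.CategoryTheory.Subobject.Limits

/-!
# Subobjects of modules through their stalks
-/

set_option autoImplicit false
set_option backward.isDefEq.respectTransparency false
set_option backward.isDefEq.respectTransparency.types false
set_option linter.style.haveILetI false
universe u

open CategoryTheory CategoryTheory.Limits AlgebraicGeometry TopologicalSpace Opposite

noncomputable section

namespace Groth.Agent.QuotFunLib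

open Groth.Agent Groth.Agent.KFlatLib

variable {X : Scheme.{u}}

instance hasFiniteBiproducts : HasFiniteBiproducts X.Modules := Abelian.hasFiniteBiproducts

theorem smap_zero {M N : X.Modules} (x : X) (m : M.presheaf.stalk x) : smap (0 : M ⟶ N) x m = 0 :=
  congr($((DerSch.stalkFunctor X x).map_zero M N) m)

theorem smap_add' {M N : X.Modules} (φ ψ : M ⟶ N) (x : X) (m : M.presheaf.stalk x) :
    smap (φ + ψ) x m = smap φ x m + smap ψ x m :=
  congr($((DerSch.stalkFunctor X x).map_add (f := φ) (g := ψ)) m)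

theorem smap_sum {M N : X.Modules} {ι : Type*} (s : Finset ι) (φ : ι → (M ⟶ N)) (x : X) (m : M.presheaf.stalk x) :
    smap (∑ i ∈ s, φ i) x m = ∑ i ∈ s, smap (φ i) x m := by
  classical
  induction s using Finset.induction_on with
  | empty => exact smap_zero x m
  | insert a s ha ih => rw [Finset.sum_insert ha, Finset.sum_insert ha, smap_add', ih]

theorem smap_sub' {M N : X.Modules} (φ ψ : M ⟶ N) (x : X) (m : M.presheaf.stalk x) :
    smap (φ - ψ) x m = smap φ x m - smap ψ x m := by
  rw [eq_sub_iff_add_eq, ← smap_add', sub_add_cancel]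

theorem smap_id {M : X.Modules} (x : X) (m : M.presheaf.stalk x) : smap (𝟙 M) x m = m :=
  congr($((DerSch.stalkFunctor X x).map_id M) m)

theorem smap_hom_ext {M N : X.Modules} {φ ψ : M ⟶ N} (h : ∀ x m, smap φ x m = smap ψ x m) : φ = ψ := by
  refine Scheme.Modules.hom_ext _ _ fun U => ?_
  ext s
  refine TopCat.Presheaf.section_ext ((toAb X).obj N) U _ _ fun y hy => ?_
  have := h y (M.presheaf.germ U y hy s)
  rwa [smap_germ, smap_germ] at this

theorem smap_injective {M N : X.Modules} (φ : M ⟶ N) [Mono φ] (x : X) : Function.Injective (smap φ x) :=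
  (ModuleCat.mono_iff_injective _).1 (inferInstance : Mono ((DerSch.stalkFunctor X x).map φ))

theorem smap_surjective {M N : X.Modules} (φ : M ⟶ N) [Epi φ] (x : X) : Function.Surjective (smap φ x) :=
  (ModuleCat.epi_iff_surjective _).1 (inferInstance : Epi ((DerSch.stalkFunctor X x).map φ))

theorem epi_of_smap_surjective {M N : X.Modules} (φ : M ⟶ N) (h : ∀ x, Function.Surjective (smap φ x)) : Epi φ where
  left_cancellation g g' hg := smap_hom_ext fun x n => by
    obtain ⟨m, rfl⟩ := h x n
    rw [← smap_comp, ← smap_comp, hg]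

theorem ker_smap_of_exact {S : ShortComplex X.Modules} (hS : S.Exact) (x : X) :
    LinearMap.range (smap S.f x) = LinearMap.ker (smap S.g x) :=
  (ShortComplex.moduleCat_exact_iff_range_eq_ker _).1 ((exact_iff_stalk S).1 hS x)

theorem ker_smap_cokernel_π {M N : X.Modules} (φ : M ⟶ N) (x : X) :
    LinearMap.ker (smap (cokernel.π φ) x) = LinearMap.range (smap φ x) :=
  (ker_smap_of_exact (ShortComplex.exact_cokernel φ) x).symm

theorem range_smap_kernel_ι {M N : X.Modules} (φ : M ⟶ N) (x : X) :
    LinearMap.range (smap (kernel.ι φ) x) = LinearMap.ker (smap φ x) :=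
  ker_smap_of_exact (ShortComplex.exact_kernel φ) x

variable {E : X.Modules}

/-- The stalk of a subobject. -/
def stk (K : Subobject E) (x : X) : Submodule (X.presheaf.stalk x) (E.presheaf.stalk x) :=
  LinearMap.range (smap K.arrow x)

theorem mem_stk_iff {K : Subobject E} {x : X} {e : E.presheaf.stalk x} :
    e ∈ stk K x ↔ smap (cokernel.π K.arrow) x e = 0 := by
  rw [← LinearMap.mem_ker, ker_smap_cokernel_π]
  rfl

theorem stk_mk {F : X.Modules} (i : F ⟶ E) [Mono i] (x : X) : stk (Subobject.mk i) x = LinearMap.range (smap i x) := by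
  refine le_antisymm ?_ ?_
  · rintro _ ⟨m, rfl⟩
    refine ⟨smap (Subobject.underlyingIso i).hom x m, ?_⟩
    rw [← smap_comp, Subobject.underlyingIso_hom_comp_eq_mk]
  · rintro _ ⟨m, rfl⟩
    refine ⟨smap (Subobject.underlyingIso i).inv x m, ?_⟩
    rw [← smap_comp, Subobject.underlyingIso_arrow]

theorem stk_kernelSubobject {N : X.Modules} (φ : E ⟶ N) (x : X) :
    stk (kernelSubobject φ) x = LinearMap.ker (smap φ x) :=
  (stk_mk (kernel.ι φ) x).trans (range_smap_kernel_ι φ x)

theorem stk_imageSubobject {F : X.Modules} (φ : F ⟶ E) (x : X) :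
    stk (imageSubobject φ) x = LinearMap.range (smap φ x) := by
  refine le_antisymm ?_ ?_
  · rintro _ ⟨m, rfl⟩
    obtain ⟨m', rfl⟩ := smap_surjective (factorThruImageSubobject φ) x m
    refine ⟨m', ?_⟩
    rw [← smap_comp, imageSubobject_arrow_comp]
  · rintro _ ⟨m, rfl⟩
    refine ⟨smap (factorThruImageSubobject φ) x m, ?_⟩
    rw [← smap_comp, imageSubobject_arrow_comp]

theorem le_of_stk_le {K L : Subobject E} (h : ∀ x, stk K x ≤ stk L x) : K ≤ L := by
  have h0 : K.arrow ≫ cokernel.π L.arrow = 0 := smap_hom_ext fun x m => by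
    rw [smap_comp, smap_zero]
    exact mem_stk_iff.1 (h x ⟨m, rfl⟩)
  exact Subobject.le_of_comm (Abelian.monoLift L.arrow K.arrow h0) (Abelian.monoLift_comp _ _ _)

theorem stk_mono {K L : Subobject E} (h : K ≤ L) (x : X) : stk K x ≤ stk L x := by
  rintro _ ⟨m, rfl⟩
  refine ⟨smap (Subobject.ofLE K L h) x m, ?_⟩
  rw [← smap_comp, Subobject.ofLE_arrow]

theorem ext_stk {K L : Subobject E} (h : ∀ x, stk K x = stk L x) : K = L :=
  le_antisymm (le_of_stk_le fun x => (h x).le) (le_of_stk_le fun x => (h x).ge)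

/-- Intersect a subobject with the kernels of finitely many maps on it. -/
theorem exists_inter (P : Subobject E) {N : X.Modules} {n : ℕ} (r : Fin n → ((P : X.Modules) ⟶ N)) :
    ∃ K : Subobject E, ∀ x, ∀ e : E.presheaf.stalk x,
      e ∈ stk K x ↔ ∃ p, smap P.arrow x p = e ∧ ∀ l, smap (r l) x p = 0 := by
  refine ⟨Subobject.mk (kernel.ι (biproduct.lift r) ≫ P.arrow), fun x e => ?_⟩
  rw [stk_mk]
  constructor
  · rintro ⟨m, rfl⟩
    refine ⟨smap (kernel.ι (biproduct.lift r)) x m, (smap_comp _ _ x m).symm, fun l => ?_⟩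
    rw [← smap_comp, ← biproduct.lift_π r l, kernel.condition_assoc, zero_comp, smap_zero]
  · rintro ⟨p, rfl, hp⟩
    have h1 : p ∈ LinearMap.ker (smap (biproduct.lift r) x) := by
      rw [LinearMap.mem_ker, ← smap_id x (smap (biproduct.lift r) x p), ← biproduct.total (f := fun _ : Fin n => N),
        smap_sum]
      refine Finset.sum_eq_zero fun l _ => ?_
      rw [smap_comp, ← smap_comp (biproduct.lift r) (biproduct.π _ l) x p, biproduct.lift_π, hp, map_zero]
    rw [← range_smap_kernel_ι] at h1
    obtain ⟨m, rfl⟩ := h1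
    exact ⟨m, smap_comp _ _ x m⟩

end Groth.Agent.QuotFunLib
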